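import Groth.Agent.SGA3cLib.MonoNhd
import Groth.Agent.TorusConnLib.Connected
import Groth.Agent.TorusAb27.Basic
import Groth.Agent.MaxCent26.Basic
import Groth.Agent.FlatLocal.DiagLocal
import Groth.Agent.SplitCentral26.Weights

/-! A homomorphism out of a semidirect product of a torus and the additive group which is a monomorphism on one fibre. -/

set_option linter.style.haveILetI false
set_option autoImplicit false
set_option backward.isDefEq.respectTransparency.types false
set_option maxHeartbeats 1000000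
set_option synthInstance.maxHeartbeats 200000

universe u

open CategoryTheory CategoryTheory.Limits MonoidalCategory CartesianMonoidalCategory MonObj GrpObj AlgebraicGeometry

noncomputable section

namespace Groth.Agent.SemiMono26

open SGA3cLib

variable {S : Scheme.{u}} {G P : Over S} [GrpObj G] [GrpObj P] (f : P ⟶ G)

/-- The kernel of a homomorphism, as a scheme over the base. -/
def ker : Over S := Over.mk (pullback.fst f.left η[G].left ≫ P.hom)

/-- The inclusion of the kernel. -/
def kι : ker f ⟶ P := Over.homMk (pullback.fst f.left η[G].left) rfl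

/-- Points killed by the homomorphism are points of the kernel. -/
def klift {X : Over S} (x : X ⟶ P) (hx : x ≫ f = 1) : X ⟶ ker f :=
  Over.homMk (pullback.lift x.left X.hom (by
    rw [← Over.comp_left, hx, Hom.one_def]
    rfl)) (by
    show pullback.lift _ _ _ ≫ pullback.fst _ _ ≫ P.hom = X.hom
    rw [pullback.lift_fst_assoc, Over.w])

theorem klift_kι {X : Over S} (x : X ⟶ P) (hx : x ≫ f = 1) : klift f x hx ≫ kι f = x :=
  Over.OverMorphism.ext (pullback.lift_fst _ _ _)

theorem kι_comp : kι f ≫ f = 1 := by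
  apply Over.OverMorphism.ext
  show pullback.fst f.left η[G].left ≫ f.left = _
  rw [pullback.condition]
  have h : pullback.snd f.left η[G].left = (ker f).hom := by
    have h1 := congrArg (· ≫ G.hom) (pullback.condition (f := f.left) (g := η[G].left))
    simp only [Category.assoc, Over.w f, show η[G].left ≫ G.hom = 𝟙 S from Over.w η[G]] at h1
    exact (Category.comp_id _).symm.trans h1.symm
  rw [h, Hom.one_def]
  rfl

instance : Mono (kι f) := by
  haveI : IsSplitMono η[G].left := IsSplitMono.mk' ⟨G.hom, Over.w η[G]⟩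
  haveI : Mono (kι f).left := inferInstanceAs (Mono (pullback.fst f.left η[G].left))
  exact Over.mono_of_mono_left _

variable [IsMonHom f]

/-- The unit of the kernel. -/
def kone (X : Over S) : X ⟶ ker f := klift f 1 (MonObj.one_comp f)

theorem kone_kι (X : Over S) : kone f X ≫ kι f = 1 := klift_kι f _ _

theorem kone_left (X : Over S) : (kone f X).left = X.hom ≫ (kone f (𝟙_ (Over S))).left := by
  have : kone f X = toUnit X ≫ kone f (𝟙_ (Over S)) := by
    rw [← cancel_mono (kι f), Category.assoc, kone_kι, kone_kι, MonObj.comp_one]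
  rw [this]
  rfl

theorem kTriv_fibre (s : S) [Mono ((Over.pullback (S.fromSpecResidueField s)).map f)] :
    Mono ((ker f).hom.fiberToSpecResidueField s) := by
  haveI : (Over.pullback (S.fromSpecResidueField s)).IsRightAdjoint := (Over.mapPullbackAdj _).isRightAdjoint
  have hm : Mono ((Over.pullback (S.fromSpecResidueField s)).map f).left :=
    inferInstanceAs (Mono ((Over.forget _).map ((Over.pullback (S.fromSpecResidueField s)).map f)))
  have hk := SGA3cLib.MonoNhd.kTriv_of_mono f (S.fromSpecResidueField s) hm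
  have key : ∀ {W : Scheme.{u}} (a : W ⟶ (ker f).hom.fiber s),
      a ≫ (ker f).hom.fiberι s = a ≫ (ker f).hom.fiberToSpecResidueField s ≫ S.fromSpecResidueField s ≫
        (kone f (𝟙_ (Over S))).left := fun {W} a => by
    let X : Over S := Over.mk ((a ≫ (ker f).hom.fiberι s) ≫ (ker f).hom)
    let x : X ⟶ ker f := Over.homMk (a ≫ (ker f).hom.fiberι s) rfl
    have h1 := hk X (Over.homMk (a ≫ (ker f).hom.fiberToSpecResidueField s) (by
      show _ = (a ≫ (ker f).hom.fiberι s) ≫ (ker f).hom
      simp only [Category.assoc, Scheme.Hom.fiber_fac]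
      rfl)) (x ≫ kι f) (by rw [Category.assoc, kι_comp, MonObj.comp_one])
    have h2 : x = kone f X := by rw [← cancel_mono (kι f), h1, kone_kι]
    have h3 := (congrArg CommaMorphism.left h2).trans (kone_left f X)
    simpa [x, X, Category.assoc, Scheme.Hom.fiber_fac] using h3
  exact ⟨fun {W} a b hab => pullback.hom_ext ((key a).trans (((reassoc_of% hab) _).trans (key b).symm)) hab⟩

/-- Near a point where the fibre is a monomorphism, the unit of the kernel is an open immersion. -/
theorem exists_open [LocallyOfFiniteType (ker f).hom] (s₀ : S)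
    [Mono ((Over.pullback (S.fromSpecResidueField s₀)).map f)] :
    ∃ U : S.Opens, s₀ ∈ U ∧ IsOpenImmersion (U.ι ≫ (kone f (𝟙_ (Over S))).left) := by
  let K := ker f
  let e : S ⟶ K.left := (kone f (𝟙_ (Over S))).left
  have he : e ≫ K.hom = 𝟙 S := Over.w (kone f (𝟙_ (Over S)))
  let x := e.base s₀
  have hx : K.hom.base x = s₀ := by rw [← Scheme.Hom.comp_apply, he]; rfl
  obtain ⟨x', hx'⟩ : ∃ x', K.hom.fiberι s₀ x' = x := by
    have : x ∈ Set.range (K.hom.fiberι s₀) := by rw [Scheme.Hom.range_fiberι]; exact hx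
    exact this
  haveI := kTriv_fibre f s₀
  haveI : LocallyOfFiniteType (K.hom.fiberToSpecResidueField s₀) := MorphismProperty.pullback_snd _ _ inferInstance
  obtain ⟨hi, hker⟩ := Props12.stalkMap_fiberι K.hom s₀ x'
  have h3 := (FlatLocal.formallyUnramified_stalkMap_iff_of_square K.hom (K.hom.fiberToSpecResidueField s₀)
    (K.hom.fiberι s₀) (S.fromSpecResidueField s₀) (K.hom.fiber_fac s₀) x' hi
    (Scheme.Hom.stalkMap_surjective _ _) hker.le).2 (FormallyUnramified.stalkMap _ x')
  rw [hx'] at h3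
  obtain ⟨V, hxV, hV⟩ := (FlatLocal.formallyUnramified_nhd_iff K.hom x).2 h3
  exact ⟨e ⁻¹ᵁ V, hxV, FlatLocal.isOpenImmersion_ι_section K.hom e he V⟩

variable (T : Over S) [GrpObj T] (α : T ⟶ Red.Gm S)
  (jT : T ⟶ P) [IsMonHom jT] (jU : Red.Ga S ⟶ P) [IsMonHom jU] [IsIso ((jT ⊗ₘ jU) ≫ μ[P])] [Mono (jT ≫ f)]

/-- The geometric points of the kernel over such a neighbourhood are trivial. -/
theorem point_eq_one [IsSeparated (ker f).hom] (hT : Red.IsTorus T)
    (hconj : ∀ (X : Over S) (t : X ⟶ T) (x x' : X ⟶ Red.Ga S), Red.gaFn x' = Red.gmFn (t ≫ α) * Red.gaFn x →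
      (t ≫ jT) * (x ≫ jU) * (t ≫ jT)⁻¹ = x' ≫ jU)
    (U : S.Opens) [IsOpenImmersion (U.ι ≫ (kone f (𝟙_ (Over S))).left)]
    {L : Type u} [Field L] (q : Spec (CommRingCat.of L) ⟶ S) (hq : ∀ y, q.base y ∈ U)
    (hαq : (BCPoints.pt q T (Red.bc q T)).symm (𝟙 _) ≫ α ≠ 1) (x : Over.mk q ⟶ P) (hx : x ≫ f = 1) : x = 1 := by
  let K := ker f
  let e : S ⟶ K.left := (kone f (𝟙_ (Over S))).left
  have he : e ≫ K.hom = 𝟙 S := Over.w (kone f (𝟙_ (Over S)))
  haveI : IsClosedImmersion (e ≫ K.hom) := by rw [he]; infer_instance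
  haveI : IsClosedImmersion e := IsClosedImmersion.of_comp e K.hom
  let W : Over S := Over.mk (pullback.snd T.hom q ≫ q)
  let t : W ⟶ T := Over.homMk (pullback.fst T.hom q) pullback.condition
  let π : W ⟶ Over.mk q := Over.homMk (pullback.snd T.hom q) rfl
  let w : W ⟶ P := (t ≫ jT) * (π ≫ x) * (t ≫ jT)⁻¹ * (π ≫ x)⁻¹
  have hw : w ≫ f = 1 := by simp [w, MonObj.mul_comp, GrpObj.inv_comp, Category.assoc, hx]
  let y := klift f w hw
  haveI : ConnectedSpace W.left := TorusConnLib.connectedSpace (Red.bc q T) (TorusAb27.isTorus_bc q T hT)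
  -- the unit lies in the preimage of the open closed set
  let σ : Over.mk q ⟶ W := Over.homMk (pullback.lift (q ≫ η[T].left) (𝟙 _) (by
    rw [Category.assoc, show η[T].left ≫ T.hom = 𝟙 S from Over.w η[T], Category.comp_id, Category.id_comp]))
    (pullback.lift_snd_assoc _ _ _ _ |>.trans (Category.id_comp _))
  have hσt : σ ≫ t = 1 := Over.OverMorphism.ext (by
    rw [Hom.one_def]
    exact pullback.lift_fst _ _ _)
  have hσπ : σ ≫ π = 𝟙 _ := Over.OverMorphism.ext (pullback.lift_snd _ _ _)
  have hσw : σ ≫ w = 1 := by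
    simp only [w, MonObj.comp_mul, GrpObj.comp_inv, ← Category.assoc, hσt, hσπ, MonObj.one_comp, Category.id_comp]
    simp
  have hσy : σ ≫ y = kone f _ := by rw [← cancel_mono (kι f), Category.assoc, klift_kι, hσw, kone_kι]
  have hWU : ∀ p, W.hom.base p ∈ U := fun p => hq _
  let A : Set W.left := y.left.base ⁻¹' Set.range e.base
  have hAc : IsClosed A := e.isClosedEmbedding.isClosed_range.preimage y.left.continuous
  have hA : A = y.left.base ⁻¹' Set.range (U.ι ≫ e).base := by
    refine Set.ext fun p => ⟨fun ⟨r, hr⟩ => ?_, fun ⟨r, hr⟩ => ⟨U.ι.base r, hr⟩⟩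
    have hrU : r ∈ U := by
      have h1 := congrArg K.hom.base hr
      rw [← Scheme.Hom.comp_apply, he, ← Scheme.Hom.comp_apply, Over.w y] at h1
      exact (show r = W.hom.base p from h1) ▸ hWU p
    exact ⟨⟨r, hrU⟩, hr⟩
  have hAo : IsOpen A := hA ▸ (U.ι ≫ e).isOpenEmbedding.isOpen_range.preimage y.left.continuous
  have hAne : A.Nonempty := ⟨σ.left.base (IsLocalRing.closedPoint L), q.base (IsLocalRing.closedPoint L), by
    rw [← Scheme.Hom.comp_apply, ← Scheme.Hom.comp_apply, ← Over.comp_left, hσy, kone_left f (Over.mk q)]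
    rfl⟩
  have hAu : A = Set.univ := IsClopen.eq_univ ⟨hAc, hAo⟩ hAne
  have hw1 : w = 1 := by
    let l := IsOpenImmersion.lift (U.ι ≫ e) y.left (by
      rintro _ ⟨p, rfl⟩
      exact (hA ▸ hAu ▸ Set.mem_univ p : p ∈ y.left.base ⁻¹' Set.range (U.ι ≫ e).base))
    have hl : l ≫ U.ι ≫ e = y.left := IsOpenImmersion.lift_fac _ _ _
    have h2 : l ≫ U.ι = W.hom :=
      calc l ≫ U.ι = (l ≫ U.ι ≫ e) ≫ K.hom := by simp only [Category.assoc, he, Category.comp_id]
        _ = W.hom := by rw [hl]; exact Over.w y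
    have h1 : y.left = W.hom ≫ e := by rw [← hl, ← h2, Category.assoc]
    have h3 : y = kone f W := Over.OverMorphism.ext (h1.trans (kone_left f W).symm)
    rw [← klift_kι f w hw, show klift f w hw = y from rfl, h3, kone_kι]
  -- coordinates of the point
  let φ := (jT ⊗ₘ jU) ≫ μ[P]
  let a : Over.mk q ⟶ T := (x ≫ inv φ) ≫ fst _ _
  let b : Over.mk q ⟶ Red.Ga S := (x ≫ inv φ) ≫ snd _ _
  have hab : x = (a ≫ jT) * (b ≫ jU) := by
    rw [Hom.mul_def]
    calc x = (x ≫ inv φ) ≫ φ := by rw [Category.assoc, IsIso.inv_hom_id, Category.comp_id]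
      _ = _ := by
        simp only [φ, a, b, ← Category.assoc]
        congr 1
        ext <;> simp [Category.assoc]
  obtain ⟨b', hb'⟩ := SGA3cLib.exists_gaFn (S := S) (X := W) (Red.gmFn (t ≫ α) * Red.gaFn (π ≫ b))
  have hc := hconj W t (π ≫ b) b' hb'
  have hcomm : (t ≫ jT) * (π ≫ a ≫ jT) = (π ≫ a ≫ jT) * (t ≫ jT) := by
    rw [← Category.assoc π, ← MonObj.mul_comp, ← MonObj.mul_comp, SGA3cLib.torus_mul_comm hT]
  have hx' : π ≫ x = (π ≫ a ≫ jT) * (π ≫ b ≫ jU) := by rw [hab, MonObj.comp_mul]
  have h4 : b' ≫ jU = π ≫ b ≫ jU := by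
    have h5 : (t ≫ jT) * (π ≫ x) * (t ≫ jT)⁻¹ = π ≫ x := mul_inv_eq_one.1 hw1
    rw [hx'] at h5
    simp only [Category.assoc] at hc
    rw [← hc]
    calc (t ≫ jT) * (π ≫ b ≫ jU) * (t ≫ jT)⁻¹
        = (π ≫ a ≫ jT)⁻¹ * ((t ≫ jT) * ((π ≫ a ≫ jT) * (π ≫ b ≫ jU)) * (t ≫ jT)⁻¹) := by
          rw [← _root_.mul_assoc (t ≫ jT), hcomm]; group
      _ = π ≫ b ≫ jU := by rw [h5, inv_mul_cancel_left]
  have h6 : b' = π ≫ b := by
    have h7 : lift (1 : W ⟶ T) b' = lift (1 : W ⟶ T) (π ≫ b) := by
      rw [← cancel_mono φ]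
      simp only [φ, lift_map_assoc, MonObj.one_comp, ← Hom.mul_def, _root_.one_mul, Category.assoc, h4]
    simpa using congrArg (· ≫ snd _ _) h7
  rw [h6] at hb'
  have hb0 : Red.gaFn b = 0 := by
    by_contra hne
    have hu : IsUnit (Red.gaFn b) := by
      let ε : Γ(Spec (CommRingCat.of L), ⊤) ≃+* L :=
        (Scheme.ΓSpecIso (CommRingCat.of L)).commRingCatIsoToRingEquiv
      have hne' : ε (Red.gaFn b) ≠ 0 := fun h => hne (ε.map_eq_zero_iff.1 h)
      exact (MulEquiv.isUnit_map ε).1 (isUnit_iff_ne_zero.2 hne')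
    have hu' : IsUnit (Red.gaFn (π ≫ b)) := by
      rw [SGA3cLib.gaFn_comp]
      exact hu.map π.left.appTop.hom
    have h8 : Red.gmFn (t ≫ α) = 1 := (hu'.mul_eq_right).1 hb'.symm
    refine hαq ?_
    have h9 : t ≫ α = 1 := SGA3cLib.gmFn_injective (h8.trans SGA3cLib.gmFn_one.symm)
    have ht : (BCPoints.pt q T (Red.bc q T)).symm (𝟙 _) = t := by
      apply Over.OverMorphism.ext
      simp [BCPoints.pt, Adjunction.homEquiv_counit, t]
    rw [ht]
    exact h9
  have hb1 : b = 1 := SGA3cLib.gaFn_injective (by rw [hb0, SGA3cLib.gaFn_one])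
  rw [hb1, MonObj.one_comp, _root_.mul_one] at hab
  rw [hab, Category.assoc, ← MonObj.one_comp (jT ≫ f), cancel_mono] at hx
  rw [hab, hx, MonObj.one_comp]

/-- The kernel is trivial over such a neighbourhood. -/
theorem kTriv [IsSeparated (ker f).hom] (hT : Red.IsTorus T)
    (hα : ∀ s : S, (Over.pullback (Red.geomPt s)).map α ≠ 1)
    (hconj : ∀ (X : Over S) (t : X ⟶ T) (x x' : X ⟶ Red.Ga S), Red.gaFn x' = Red.gmFn (t ≫ α) * Red.gaFn x →
      (t ≫ jT) * (x ≫ jU) * (t ≫ jT)⁻¹ = x' ≫ jU)
    (U : S.Opens) [IsOpenImmersion (U.ι ≫ (kone f (𝟙_ (Over S))).left)] :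
    SGA3cLib.MonoNhd.KTriv f U.ι := by
  let K := ker f
  let e : S ⟶ K.left := (kone f (𝟙_ (Over S))).left
  have he : e ≫ K.hom = 𝟙 S := Over.w (kone f (𝟙_ (Over S)))
  intro X p x hx
  let y := klift f x hx
  have hr : Set.range y.left.base ⊆ Set.range (U.ι ≫ e).base := by
    rintro _ ⟨r, rfl⟩
    let z := y.left.base r
    let s := K.hom.base z
    have hs : s ∈ U := by
      show K.hom.base (y.left.base r) ∈ U
      rw [← Scheme.Hom.comp_apply, Over.w y, ← Over.w p, Scheme.Hom.comp_apply]
      exact (p.left.base r).2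
    let L := AlgebraicClosure (K.left.residueField z)
    letI : Algebra (S.residueField s) (K.left.residueField z) := (K.hom.residueFieldMap z).hom.toAlgebra
    letI : Algebra (S.residueField s) L :=
      ((algebraMap (K.left.residueField z) L).comp (algebraMap (S.residueField s) (K.left.residueField z))).toAlgebra
    let θ : AlgebraicClosure (S.residueField s) →ₐ[S.residueField s] L := IsAlgClosed.lift
    let m : Spec (CommRingCat.of L) ⟶ K.left :=
      Spec.map (CommRingCat.ofHom (algebraMap (K.left.residueField z) L)) ≫ K.left.fromSpecResidueField z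
    let q : Spec (CommRingCat.of L) ⟶ S := Spec.map (CommRingCat.ofHom θ.toRingHom) ≫ Red.geomPt s
    have hm : m ≫ K.hom = q := by
      simp only [m, q, Red.geomPt, Category.assoc, ← Scheme.Hom.SpecMap_residueFieldMap_fromSpecResidueField K.hom z]
      rw [← Spec.map_comp_assoc, ← Spec.map_comp_assoc]
      congr 2
      exact CommRingCat.hom_ext θ.comp_algebraMap.symm
    have hqs : ∀ w, q.base w = s := fun w => Set.mem_singleton_iff.1 ((Scheme.range_fromSpecResidueField s).subset ⟨_, rfl⟩)
    have hαq : (BCPoints.pt q T (Red.bc q T)).symm (𝟙 _) ≫ α ≠ 1 := by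
      intro h
      refine hα s ?_
      let p₀ := Red.geomPt s
      let a : Spec (CommRingCat.of L) ⟶ Spec (CommRingCat.of (AlgebraicClosure (S.residueField s))) :=
        Spec.map (CommRingCat.ofHom θ.toRingHom)
      let r : (Red.bc q T).left ⟶ (Red.bc p₀ T).left :=
        pullback.lift (pullback.fst T.hom q) (pullback.snd T.hom q ≫ a) (by
          rw [pullback.condition, Category.assoc])
      haveI : Surjective a := ⟨fun y => ⟨IsLocalRing.closedPoint _,
        Subsingleton.elim (α := PrimeSpectrum (AlgebraicClosure (S.residueField s))) _ _⟩⟩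
      haveI : Flat a := AGFImage11.flat_of_field (k := AlgebraicClosure (S.residueField s)) a
      haveI : IsAffineHom a := inferInstance
      have sq : IsPullback r (pullback.snd T.hom q) (pullback.snd T.hom p₀) a := by
        refine IsPullback.of_right ?_ (pullback.lift_snd _ _ _) (IsPullback.of_hasPullback T.hom p₀)
        rw [pullback.lift_fst]
        exact IsPullback.of_hasPullback T.hom q
      haveI : Flat r := MorphismProperty.of_isPullback sq.flip inferInstance
      haveI : Surjective r := MorphismProperty.of_isPullback sq.flip inferInstance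
      haveI : QuasiCompact r := MorphismProperty.of_isPullback sq.flip inferInstance
      haveI : Epi r := Flat.epi_of_flat_of_surjective r
      have h5 : (BCPoints.pt p₀ T (Red.bc p₀ T)).symm (𝟙 _) ≫ α = 1 := by
        let R : (Over.map q).obj (Red.bc q T) ⟶ (Over.map p₀).obj (Red.bc p₀ T) := Over.homMk r (by
          show r ≫ pullback.snd T.hom p₀ ≫ p₀ = pullback.snd T.hom q ≫ q
          rw [pullback.lift_snd_assoc, Category.assoc])
        have hR : (BCPoints.pt q T (Red.bc q T)).symm (𝟙 _) =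
            R ≫ (BCPoints.pt p₀ T (Red.bc p₀ T)).symm (𝟙 _) := by
          apply Over.OverMorphism.ext
          simp [BCPoints.pt, Adjunction.homEquiv_counit, R, r]
          exact (pullback.lift_fst _ _ _).symm
        rw [hR, Category.assoc, ← MonObj.comp_one R] at h
        have h1 := congrArg CommaMorphism.left h
        exact Over.OverMorphism.ext ((cancel_epi r).1 h1)
      have h6 := congrArg (BCPoints.pt p₀ (Red.Gm S) (Red.bc p₀ T)) h5
      rw [BCPoints.pt_comp, Equiv.apply_symm_apply, Category.id_comp, MonoNhd.bc_one] at h6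
      exact h6
    let xq : Over.mk q ⟶ ker f := Over.homMk m hm
    have h1 := point_eq_one f T α jT jU hT hconj U q (fun w => (hqs w).symm ▸ hs) hαq (xq ≫ kι f)
      (by rw [Category.assoc, kι_comp, MonObj.comp_one])
    have h2 : xq = kone f _ := by rw [← cancel_mono (kι f), h1, kone_kι]
    have h3 : m = q ≫ e := (congrArg CommaMorphism.left h2).trans (kone_left f (Over.mk q))
    refine ⟨⟨s, hs⟩, ?_⟩
    let c : Spec (CommRingCat.of L) := IsLocalRing.closedPoint L
    have h4 : m.base c = z := Scheme.fromSpecResidueField_apply z _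
    show e.base s = z
    rw [← h4, h3, Scheme.Hom.comp_apply, hqs]
  let l := IsOpenImmersion.lift (U.ι ≫ e) y.left hr
  have hl : l ≫ U.ι ≫ e = y.left := IsOpenImmersion.lift_fac _ _ _
  have h2 : l ≫ U.ι = X.hom :=
    calc l ≫ U.ι = (l ≫ U.ι ≫ e) ≫ K.hom := by simp only [Category.assoc, he, Category.comp_id]
      _ = X.hom := by rw [hl]; exact Over.w y
  have h3 : y = kone f X := Over.OverMorphism.ext (by rw [kone_left, ← hl, ← h2, Category.assoc])
  rw [← klift_kι f x hx, show klift f x hx = y from rfl, h3, kone_kι]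

end Groth.Agent.SemiMono26
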